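import Mathlib

/-!
# The combinatorial lemma of S3530
-/

set_option autoImplicit false

namespace Cfsg.Agent.H389.RSq

namespace CombAux

theorem card_erase_ge {s : Finset (Fin 5)} {a : Fin 5} : s.card ≤ (s.erase a).card + 1 := by
  have := Finset.pred_card_le_card_erase (s := s) (a := a)
  omega

theorem card_erase_of_not {s : Finset (Fin 5)} {a : Fin 5} (h : a ∉ s) : (s.erase a).card = s.card := by
  rw [Finset.erase_eq_of_notMem h]

theorem filter_eq (N : Finset (Fin 5)) (r : Fin 5) {c : Option (Fin 5)} (hc : c = none) :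
    (N.filter fun i => i ≠ r ∧ c ≠ some i) = N.erase r := by
  ext i
  simp [hc, and_comm]

theorem filter_eq' (N : Finset (Fin 5)) (r d : Fin 5) {c : Option (Fin 5)} (hc : c = some d) :
    (N.filter fun i => i ≠ r ∧ c ≠ some i) = (N.erase r).erase d := by
  ext i
  subst hc
  simp only [Finset.mem_filter, Finset.mem_erase, ne_eq, Option.some.injEq]
  constructor
  · rintro ⟨h1, h2, h3⟩
    exact ⟨fun h => h3 h.symm, h2, h1⟩
  · rintro ⟨h1, h2, h3⟩
    exact ⟨h3, h2, fun h => h1 h.symm⟩

end CombAux

open CombAux in
theorem comb (plus minus N N0 Phi : Finset (Fin 5)) (c : Option (Fin 5)) (even one : Prop)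
    (hN0 : N0 ⊆ N) (hd : Disjoint plus minus) (hcp : ∀ i ∈ plus, c ≠ some i) (hcm : ∀ i ∈ minus, c ≠ some i)
    (h0 : 0 ∈ plus ∨ 0 ∈ minus ∨ c = some 0)
    (hev : even → c = none ∧ 0 ∉ minus ∧ ¬ one) (hc0 : c = some 0 → ¬ one)
    (h1 : ∀ y, y ∈ plus ∨ y ∈ minus → y ∈ N ∨ y ∈ Phi)
    (h1' : one → ∀ y, c = some y → y ∈ N)
    (h2 : ∀ y, y ∉ plus → y ∉ minus → c ≠ some y → y ∈ N)
    (h3 : ∃ i ∈ plus, ∃ j ∈ plus, i ≠ j)
    (h4 : ∃ i j, i ≠ j ∧ (i ∈ minus ∨ c = some i) ∧ (j ∈ minus ∨ c = some j))
    (h5 : ∀ i ∈ Phi, ∀ j ∈ Phi, i ≠ j → i = 0 ∨ j = 0)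
    (h6 : ¬ even → 0 ∉ N → ∀ i ∈ N, ∀ j ∈ N, i ≠ j → ∀ w ∈ Phi, w ≠ 0 → w = i ∨ w = j)
    (h7 : one → Phi = ∅)
    (h8 : ∀ i ∈ N0, ∀ j ∈ N0, i ≠ j → ∀ w ∈ N, w = i ∨ w = j)
    (h9 : ∀ r ∈ minus, r ∉ N0 → (N.filter fun i => i ≠ r ∧ c ≠ some i).card ≤ 2)
    (h10 : ¬ one → ∀ r, c = some r → r ∉ N0 → (N.erase r).card ≤ 2)
    (h11 : ∀ p ∈ plus, ∀ q ∈ plus, p ≠ q → p ∉ N0 → q ∉ N0 → ((N.erase p).erase q).card ≤ 2) : False := by
  -- elements outside `N`
  have hB : ∀ y, y ∉ N → (y ∈ Phi ∧ (y ∈ plus ∨ y ∈ minus)) ∨ c = some y := by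
    intro y hy
    by_cases hc : c = some y
    · exact Or.inr hc
    · left
      have h12 : y ∈ plus ∨ y ∈ minus := by
        by_contra hcon
        push Not at hcon
        exact hy (h2 y hcon.1 hcon.2 hc)
      exact ⟨(h1 y h12).resolve_left hy, h12⟩
  -- a minus element
  have hm : ∃ r, r ∈ minus := by
    obtain ⟨i, j, hij, hi, hj⟩ := h4
    rcases hi with hi | hi
    · exact ⟨i, hi⟩
    · rcases hj with hj | hj
      · exact ⟨j, hj⟩
      · rw [hi] at hj
        exact absurd (Option.some.inj hj) hij
  have hnB : N.card + (Nᶜ : Finset (Fin 5)).card = 5 := by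
    rw [Finset.card_compl, Fintype.card_fin]
    have := Finset.card_le_univ N
    rw [Fintype.card_fin] at this
    omega
  -- two elements of `N0`
  have hN02 : 3 ≤ N.card → ∀ i ∈ N0, ∀ j ∈ N0, i = j := by
    intro h3 i hi j hj
    by_contra hij
    have h12 : N ⊆ {i, j} := by
      intro w hw
      rw [Finset.mem_insert, Finset.mem_singleton]
      exact h8 i hi j hj hij w hw
    have h13 := Finset.card_le_card h12
    have h14 := Finset.card_le_two (a := i) (b := j)
    omega
  by_cases ho : one
  · have hN : N.card = 5 := by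
      have h12 : (Nᶜ : Finset (Fin 5)) = ∅ := by
        rw [Finset.eq_empty_iff_forall_notMem]
        intro y hy
        rw [Finset.mem_compl] at hy
        rcases hB y hy with h | h
        · rw [h7 ho] at h
          exact absurd h.1 (Finset.notMem_empty y)
        · exact hy (h1' ho y h)
      rw [h12, Finset.card_empty] at hnB
      omega
    obtain ⟨i, hi, j, hj, hij⟩ := h3
    have h12 : ∃ p ∈ plus, p ∈ N0 := by
      by_contra hcon
      push Not at hcon
      have h13 := h11 i hi j hj hij (hcon i hi) (hcon j hj)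
      have h14 := card_erase_ge (s := N) (a := i)
      have h15 := card_erase_ge (s := N.erase i) (a := j)
      omega
    obtain ⟨p, hp, hpN⟩ := h12
    obtain ⟨r, hr⟩ := hm
    have h13 : r ∈ N0 := by
      by_contra hcon
      have h14 := h9 r hr hcon
      have h15 := card_erase_ge (s := N) (a := r)
      rcases hc : c with _ | d
      · rw [filter_eq N r hc] at h14
        omega
      · rw [filter_eq' N r d hc] at h14
        have h16 := card_erase_ge (s := N.erase r) (a := d)
        omega
    have h14 := hN02 (by omega) p hpN r h13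
    subst h14
    exact Finset.disjoint_left.1 hd hp hr
  · -- `n ≥ 3`
    have hn3 : 3 ≤ N.card := by
      by_contra hlt
      have h12 : 1 < ((Nᶜ : Finset (Fin 5)).erase 0).card := by
        have := card_erase_ge (s := (Nᶜ : Finset (Fin 5))) (a := 0)
        omega
      obtain ⟨x, hx, y, hy, hxy⟩ := Finset.one_lt_card.1 h12
      rw [Finset.mem_erase, Finset.mem_compl] at hx hy
      -- `w ∈ Phi`, `d = c`
      obtain ⟨w, d, hw0, hwN, hwP, hd0, hdN, hdc⟩ : ∃ w d : Fin 5, w ≠ 0 ∧ w ∉ N ∧ w ∈ Phi ∧ d ≠ 0 ∧ d ∉ N ∧ c = some d := by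
        rcases hB x hx.2 with h | h
        · rcases hB y hy.2 with h' | h'
          · rcases h5 x h.1 y h'.1 hxy with h'' | h''
            · exact absurd h'' hx.1
            · exact absurd h'' hy.1
          · exact ⟨x, y, hx.1, hx.2, h.1, hy.1, hy.2, h'⟩
        · rcases hB y hy.2 with h' | h'
          · exact ⟨y, x, hy.1, hy.2, h'.1, hx.1, hx.2, h⟩
          · rw [h] at h'
            exact absurd (Option.some.inj h') hxy
      have hne : ¬ even := by
        intro he
        rw [(hev he).1] at hdc
        exact absurd hdc (by simp)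
      -- `N` has at least two elements
      have h13 : (Nᶜ : Finset (Fin 5)) ⊆ {0, w, d} := by
        intro z hz
        rw [Finset.mem_compl] at hz
        rw [Finset.mem_insert, Finset.mem_insert, Finset.mem_singleton]
        by_cases hz0 : z = 0
        · exact Or.inl hz0
        · right
          rcases hB z hz with h | h
          · left
            by_contra hzw
            rcases h5 z h.1 w hwP hzw with h'' | h''
            · exact hz0 h''
            · exact hw0 h''
          · right
            rw [hdc] at h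
            exact (Option.some.inj h).symm
      have h14 := Finset.card_le_card h13
      have h15 := Finset.card_le_three (a := 0) (b := w) (c := d)
      have h16 : 1 < N.card := by omega
      obtain ⟨i, hi, j, hj, hij⟩ := Finset.one_lt_card.1 h16
      have h17 : 0 ∉ N := by
        intro h0N
        have h18 : (Nᶜ : Finset (Fin 5)) ⊆ {w, d} := by
          intro z hz
          have h19 := h13 hz
          rw [Finset.mem_insert] at h19
          rcases h19 with h19 | h19
          · rw [h19, Finset.mem_compl] at hz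
            exact absurd h0N hz
          · exact h19
        have h19 := Finset.card_le_card h18
        have h20 := Finset.card_le_two (a := w) (b := d)
        omega
      rcases h6 hne h17 i hi j hj hij w hwP hw0 with h | h
      · exact hwN (h ▸ hi)
      · exact hwN (h ▸ hj)
    have hone := hN02 hn3
    -- no `w` if `0 ∉ N`, not even
    have hw : ¬ even → 0 ∉ N → ∀ w ∈ Phi, w ≠ 0 → w ∈ N := by
      intro hne h0N w hwP hw0
      obtain ⟨i, hi, j, hj, hij⟩ := Finset.one_lt_card.1 (show 1 < N.card by omega)
      rcases h6 hne h0N i hi j hj hij w hwP hw0 with h | h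
      · exact h ▸ hi
      · exact h ▸ hj
    -- the element `c` is in `N0`
    have hcN0 : ∀ r, c = some r → r ∈ N0 := by
      intro r hr
      by_contra hrN
      have hne : ¬ even := by
        intro he
        rw [(hev he).1] at hr
        exact absurd hr (by simp)
      have h12 := h10 ho r hr hrN
      have hrN' : r ∈ N := by
        by_contra hcon
        rw [card_erase_of_not hcon] at h12
        omega
      have h13 := card_erase_ge (s := N) (a := r)
      -- two elements outside `N`
      obtain ⟨x, hx, y, hy, hxy⟩ := Finset.one_lt_card.1 (show 1 < (Nᶜ : Finset (Fin 5)).card by omega)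
      rw [Finset.mem_compl] at hx hy
      have hxP : x ∈ Phi := by
        rcases hB x hx with h | h
        · exact h.1
        · rw [hr] at h
          exact absurd hrN' ((Option.some.inj h).symm ▸ hx)
      have hyP : y ∈ Phi := by
        rcases hB y hy with h | h
        · exact h.1
        · rw [hr] at h
          exact absurd hrN' ((Option.some.inj h).symm ▸ hy)
      rcases h5 x hxP y hyP hxy with h | h
      · exact hy (hw hne (h ▸ hx) y hyP (fun h' => hxy (h.trans h'.symm)))
      · exact hx (hw hne (h ▸ hy) x hxP (fun h' => hxy (h'.trans h.symm)))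
    have hBP : ∀ y, y ∉ N → y ∈ Phi ∧ (y ∈ plus ∨ y ∈ minus) := by
      intro y hy
      rcases hB y hy with h | h
      · exact h
      · exact absurd (hN0 (hcN0 y h)) hy
    rcases hc : c with _ | r
    · -- `c = none`
      obtain ⟨r, hr, hrN0⟩ : ∃ r ∈ minus, r ∉ N0 := by
        obtain ⟨i, j, hij, hi, hj⟩ := h4
        have hi' : i ∈ minus := hi.resolve_right (by rw [hc]; simp)
        have hj' : j ∈ minus := hj.resolve_right (by rw [hc]; simp)
        by_contra hcon
        push Not at hcon
        exact hij (hone i (hcon i hi') j (hcon j hj'))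
      have hmin : ∀ r ∈ minus, r ∉ N0 → r ∈ N := by
        intro r hr hrN0
        by_contra hcon
        have h12 := h9 r hr hrN0
        rw [filter_eq N r hc, card_erase_of_not hcon] at h12
        omega
      have h12 := h9 r hr hrN0
      rw [filter_eq N r hc] at h12
      have h13 := card_erase_ge (s := N) (a := r)
      obtain ⟨x, hx, y, hy, hxy⟩ := Finset.one_lt_card.1 (show 1 < (Nᶜ : Finset (Fin 5)).card by omega)
      rw [Finset.mem_compl] at hx hy
      have hpl : ∀ z, z ∉ N → z ∈ plus := by
        intro z hz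
        rcases (hBP z hz).2 with h | h
        · exact h
        · exact absurd (hmin z h (fun h' => hz (hN0 h'))) hz
      have h14 := h11 x (hpl x hx) y (hpl y hy) hxy (fun h' => hx (hN0 h')) (fun h' => hy (hN0 h'))
      rw [card_erase_of_not (fun h' => hy (Finset.mem_of_mem_erase h')), card_erase_of_not hx] at h14
      omega
    · -- `c = r ∈ N0`
      have hrN0 := hcN0 r hc
      have hne : ¬ even := by
        intro he
        rw [(hev he).1] at hc
        exact absurd hc (by simp)
      have hpN0 : ∀ p ∈ plus, p ∉ N0 := by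
        intro p hp hpN
        exact hcp p hp (by rw [hc, hone p hpN r hrN0])
      have hmN0 : ∀ p ∈ minus, p ∉ N0 := by
        intro p hp hpN
        exact hcm p hp (by rw [hc, hone p hpN r hrN0])
      have hle : (Nᶜ : Finset (Fin 5)).card ≤ 1 := by
        by_contra hcon
        obtain ⟨x, hx, y, hy, hxy⟩ := Finset.one_lt_card.1 (show 1 < (Nᶜ : Finset (Fin 5)).card by omega)
        rw [Finset.mem_compl] at hx hy
        rcases h5 x (hBP x hx).1 y (hBP y hy).1 hxy with h | h
        · exact hy (hw hne (h ▸ hx) y (hBP y hy).1 (fun h' => hxy (h.trans h'.symm)))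
        · exact hx (hw hne (h ▸ hy) x (hBP x hx).1 (fun h' => hxy (h'.trans h.symm)))
      have hm9 : ∀ s ∈ minus, N.card ≤ 4 ∧ s ∈ N := by
        intro s hs
        have h12 := h9 s hs (hmN0 s hs)
        rw [filter_eq' N s r hc] at h12
        have h13 := card_erase_ge (s := N.erase s) (a := r)
        have h14 := card_erase_ge (s := N) (a := s)
        refine ⟨by omega, ?_⟩
        by_contra hcon
        have h15 := card_erase_of_not hcon
        omega
      obtain ⟨s, hs⟩ := hm
      have h12 := hm9 s hs
      obtain ⟨b, hb⟩ := Finset.card_pos.1 (show 0 < (Nᶜ : Finset (Fin 5)).card by omega)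
      rw [Finset.mem_compl] at hb
      have hbp : b ∈ plus := by
        rcases (hBP b hb).2 with h | h
        · exact h
        · exact absurd (hm9 b h).2 hb
      obtain ⟨q, hq, hqb⟩ : ∃ q ∈ plus, q ≠ b := by
        obtain ⟨i, hi, j, hj, hij⟩ := h3
        by_cases h : i = b
        · exact ⟨j, hj, fun h' => hij (h.trans h'.symm)⟩
        · exact ⟨i, hi, h⟩
      have h13 := h11 b hbp q hq (Ne.symm hqb) (hpN0 b hbp) (hpN0 q hq)
      rw [Finset.erase_eq_of_notMem hb] at h13
      have h14 := card_erase_ge (s := N) (a := q)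
      omega

end Cfsg.Agent.H389.RSq
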