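import Cfsg.Agent.H389.R.Pivot
import Cfsg.Agent.H829.S3530.Ree
import Cfsg.Agent.H347.S3530.PslBasics
import Cfsg.Agent.H393.S3530.PslLocal

/-!
# S3530, "common 1"
-/

set_option autoImplicit false
set_option linter.unusedSectionVars false

namespace Cfsg.Agent.H389.RSq

open Subgroup
open Cfsg.Agent.H389.JSq (Has)
open Cfsg.Agent.OddOrderLocal.HallPi (prime_dvd_card)

universe u

variable {m : ℕ} {σ : Fin 5 → ℕ} {X Y : Type u} [Group X] [Finite X] [Group Y] [Finite Y] {f : X →* Y}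
  {D P : Subgroup X} {E K L : Subgroup Y} {H : Set ℕ → Subgroup X}

theorem IsK.simple {L : Type u} [Group L] [Finite L] (h : IsK L) : IsSimpleGroup L := by
  rcases h with ⟨s, f, h⟩ | ⟨m, h⟩
  · exact h.simple
  · exact h.simple

theorem IsK.perfect (h : IsK K) : ⁅K, K⁆ = K := by
  have h1 : ⁅(⊤ : Subgroup K), (⊤ : Subgroup K)⁆ = ⊤ := by
    rcases h with ⟨s, f, h⟩ | ⟨m, h⟩
    · exact h.perfect
    · exact h.perfect
  have h2 := congrArg (Subgroup.map K.subtype) h1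
  rw [Subgroup.map_commutator, ← MonoidHom.range_eq_map, K.range_subtype] at h2
  exact h2

theorem IsK.three_dvd {L : Type u} [Group L] [Finite L] (h : IsK L) : 3 ∣ Nat.card L := by
  rcases h with ⟨s, f, h⟩ | ⟨m, h⟩
  · exact h.three_dvd
  · rw [h.card, reeCard]
    exact Dvd.dvd.mul_right (Dvd.dvd.mul_right (dvd_pow (dvd_pow_self 3 (by omega)) (by omega)) _) _

theorem IsK.zero_mem {L : Type u} [Group L] [Finite L] (h : IsK L) (S : Sig m σ) : 0 ∈ Lam σ L := by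
  rw [Lam, Finset.mem_filter]
  exact ⟨Finset.mem_univ _, by rw [S.zero]; exact h.three_dvd⟩

theorem IsK.piv_three {L : Type u} [Group L] [Finite L] (h : IsK L) (h2 : ∀ e, ¬ IsL2 2 e L) : Piv L 2 3 := by
  rcases h with ⟨s, f, h⟩ | ⟨m, h⟩
  · apply h.piv_three
    rintro rfl
    exact h2 f h
  · exact h.piv_three

theorem IsK.isSolvable_normalizer {L : Type u} [Group L] [Finite L] (h : IsK L) {p : ℕ} (hp : p.Prime) (hp2 : p ≠ 2)
    {T : Subgroup L} (hT : IsPGroup p T) (hT1 : T ≠ ⊥) : Group.IsSolvable (normalizer (T : Set L)) := by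
  rcases h with ⟨s, f, h⟩ | ⟨m, h⟩
  · exact h.isSolvable_normalizer hp hp2 hT hT1
  · exact h.isSolvable_normalizer hp hp2 hT hT1

theorem IsK.exists_three {L : Type u} [Group L] [Finite L] (h : IsK L) :
    ∃ z : L, orderOf z = 3 ∧ ∀ α : MulAut L, ∃ g : L, α z ∈ zpowers (g * z * g⁻¹) := by
  rcases h with ⟨s, f, h⟩ | ⟨m, h⟩
  · exact h.exists_three
  · exact h.exists_three

theorem M0.hs (h : M0 m σ f) (D : Subgroup X) : Group.IsSolvable (D ⊓ f.ker : Subgroup X) := by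
  have := h.solv
  exact Group.isSolvable_of_isSolvable_injective (f := Subgroup.inclusion (inf_le_right : D ⊓ f.ker ≤ f.ker))
    (Subgroup.inclusion_injective _)

theorem M0.hodd (h : M0 m σ f) (D : Subgroup X) : Odd (Nat.card (D ⊓ f.ker : Subgroup X)) :=
  h.odd.of_dvd_nat (card_dvd_of_le inf_le_right)

theorem M0.exists_cov (h : M0 m σ f) {D : Subgroup X} {E : Subgroup Y} (hE : E ≤ D.map f) : ∃ P H, Cov f D E P H :=
  RSq.exists_cov (h.hs D) hE

theorem M0.top_map (h : M0 m σ f) : (⊤ : Subgroup X).map f = ⊤ :=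
  Subgroup.map_top_of_surjective f h.surj

theorem Cov.hall_le (C : Cov f D E P H) (π : Set ℕ) : H π ≤ D ⊓ f.ker := (C.hall π).1

theorem Cov.isPGroup_hall (C : Cov f D E P H) {w : ℕ} (hw : w.Prime) : IsPGroup w (H {w}) := by
  have : Fact w.Prime := ⟨hw⟩
  have h1 : Nat.card (H {w}) ≠ 0 := Nat.card_pos.ne'
  have h2 := Nat.eq_prime_pow_of_unique_prime_dvd h1 (p := w) (fun {q} hq h =>
    Set.mem_singleton_iff.1 ((C.hall {w}).2.1 q hq h))
  exact IsPGroup.of_card h2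

theorem Cov.hall_ne_bot (C : Cov f D E P H) {w : ℕ} (hw : w.Prime) (hd : w ∣ Nat.card (D ⊓ f.ker : Subgroup X)) :
    H {w} ≠ ⊥ := by
  intro h0
  have h1 := prime_dvd_card (C.hall {w}) hw (Set.mem_singleton w) hd
  rw [h0, card_bot] at h1
  exact hw.one_lt.ne' (Nat.dvd_one.1 h1)

theorem dvd_card_cent {Q : Subgroup X} {w : ℕ} (hw : w.Prime) (hQ : IsPGroup w Q) (hQN : Q ≤ f.ker) {x : X}
    (hfix : Q ⊓ centralizer {x} ≠ ⊥) : w ∣ Nat.card (centralizer {x} ⊓ f.ker : Subgroup X) := by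
  have : Fact w.Prime := ⟨hw⟩
  have h1 : IsPGroup w (Q ⊓ centralizer {x} : Subgroup X) := hQ.to_le inf_le_left
  obtain ⟨n, hn⟩ := (IsPGroup.iff_card).1 h1
  have h2 : w ∣ Nat.card (Q ⊓ centralizer {x} : Subgroup X) := by
    rw [hn]
    refine dvd_pow_self w ?_
    rintro rfl
    rw [pow_zero] at hn
    exact hfix (Subgroup.eq_bot_of_card_eq _ hn)
  exact h2.trans (card_dvd_of_le (le_inf inf_le_right (inf_le_left.trans hQN)))

theorem M0.pivot (h : M0 m σ f) (C : Cov f D E P H) (hL : IsSimpleGroup L) (hLE : L ≤ E)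
    {v r : ℕ} (hv : v.Prime) (hr : r.Prime) (hvr : v ≠ r) (hpiv : Piv L v r)
    (hZ : ¬ r ∣ Nat.card (P ⊓ f.ker : Subgroup X)) :
    ∃ x ∈ P, orderOf x = r ∧ f x ∈ L ∧ ∀ w : ℕ, w.Prime → w ≠ r → w ≠ v → w ∣ Nat.card (D ⊓ f.ker : Subgroup X) →
      w ∣ Nat.card (centralizer {x} ⊓ f.ker : Subgroup X) := by
  obtain ⟨x, hx, hxr, hxL, hfix⟩ := C.pivot (h.hodd D) hL hLE hv hr hvr hpiv hZ
  refine ⟨x, hx, hxr, hxL, ?_⟩
  intro w hw hwr hwv hd
  exact dvd_card_cent hw (C.isPGroup_hall hw) ((C.hall_le {w}).trans inf_le_right)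
    (hfix w hw hwr hwv (H {w}) (C.isPGroup_hall hw) (C.hall_ne_bot hw hd) (C.norm {w}))

theorem Cov.le_map_centralizer (C : Cov f D E P H) {x : X} (hx : x ∈ P)
    (hc : (orderOf x).Coprime (Nat.card (P ⊓ f.ker : Subgroup X))) (hLE : L ≤ E)
    (hL : L ≤ centralizer {f x}) : L ≤ (centralizer {x}).map f :=
  (RSq.le_map_centralizer hx hc (by rw [C.map]; exact hLE) hL).trans (map_mono inf_le_right)

end Cfsg.Agent.H389.RSq
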